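import Cfsg.Agent.Lib.Char.TwoByTwoOrders
import Cfsg.Agent.Lib.Char.TwoByTwoTorus

/-!
# A group with a normal 3-subgroup sharing the small maximal element orders of a Ree group

`V = M₂(K)` under `M ↦ s g M (g^(3))ᵀ`, `s = ±1`, `g ∈ SL₂(K)`.
-/

set_option autoImplicit false
set_option linter.all false

namespace CfsgLib.Char.ReeTrunc

open Matrix CfsgLib.PSL2Two CfsgLib.Char.TwoByTwo

variable (K : Type) [Field K] [CharP K 3]

local instance : Fact (Nat.Prime 3) := ⟨Nat.prime_three⟩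

local notation "M2" => Matrix (Fin 2) (Fin 2) K

/-- the twisted matrix -/
noncomputable def tw : M2 →+* M2 := (frobenius K 3).mapMatrix

/-- the signed twisted action -/
noncomputable def actHom : (ℤˣ × SL2 K) →* MulAut (Multiplicative M2) where
  toFun p := AddEquiv.toMultiplicative
    { toFun := fun M => ((p.1 : ℤ) : K) • (p.2.1 * M * (tw K p.2.1)ᵀ)
      invFun := fun M => ((p.1 : ℤ) : K) • ((p.2⁻¹).1 * M * (tw K (p.2⁻¹).1)ᵀ)
      left_inv := fun M => by
        have h1 : (p.2⁻¹).1 * p.2.1 = 1 := by rw [← Matrix.SpecialLinearGroup.coe_mul, inv_mul_cancel, Matrix.SpecialLinearGroup.coe_one]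
        have hs : ((p.1 : ℤ) : K) * ((p.1 : ℤ) : K) = 1 := by
          rw [← Int.cast_mul, ← Units.val_mul, Int.units_mul_self, Units.val_one, Int.cast_one]
        show _ • ((p.2⁻¹).1 * (_ • (p.2.1 * M * (tw K p.2.1)ᵀ)) * _) = M
        rw [mul_smul_comm, smul_mul_assoc, smul_smul, hs, one_smul, ← mul_assoc, ← mul_assoc, h1, one_mul, mul_assoc,
          ← Matrix.transpose_mul, ← map_mul, h1, map_one, Matrix.transpose_one, mul_one]
      right_inv := fun M => by
        have h1 : p.2.1 * (p.2⁻¹).1 = 1 := by rw [← Matrix.SpecialLinearGroup.coe_mul, mul_inv_cancel, Matrix.SpecialLinearGroup.coe_one]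
        have hs : ((p.1 : ℤ) : K) * ((p.1 : ℤ) : K) = 1 := by
          rw [← Int.cast_mul, ← Units.val_mul, Int.units_mul_self, Units.val_one, Int.cast_one]
        show _ • (p.2.1 * (_ • ((p.2⁻¹).1 * M * (tw K (p.2⁻¹).1)ᵀ)) * _) = M
        rw [mul_smul_comm, smul_mul_assoc, smul_smul, hs, one_smul, ← mul_assoc, ← mul_assoc, h1, one_mul, mul_assoc,
          ← Matrix.transpose_mul, ← map_mul, h1, map_one, Matrix.transpose_one, mul_one]
      map_add' := fun M N => by rw [mul_add, add_mul, smul_add] }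
  map_one' := MulEquiv.ext fun M => Multiplicative.toAdd.injective (by
    show (((1 : ℤˣ) : ℤ) : K) • ((1 : SL2 K).1 * Multiplicative.toAdd M * (tw K (1 : SL2 K).1)ᵀ) = Multiplicative.toAdd M
    simp)
  map_mul' p r := MulEquiv.ext fun M => Multiplicative.toAdd.injective (by
    show (((p.1 * r.1 : ℤˣ) : ℤ) : K) • ((p.2 * r.2).1 * Multiplicative.toAdd M * (tw K (p.2 * r.2).1)ᵀ) =
      ((p.1 : ℤ) : K) • (p.2.1 * (((r.1 : ℤ) : K) • (r.2.1 * Multiplicative.toAdd M * (tw K r.2.1)ᵀ)) * (tw K p.2.1)ᵀ)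
    rw [Matrix.SpecialLinearGroup.coe_mul, map_mul, Matrix.transpose_mul, mul_smul_comm, smul_mul_assoc, smul_smul,
      Units.val_mul, Int.cast_mul]
    simp only [mul_assoc])

theorem actHom_apply (p : ℤˣ × SL2 K) (M : M2) :
    Multiplicative.toAdd (actHom K p (Multiplicative.ofAdd M)) = ((p.1 : ℤ) : K) • (p.2.1 * M * (tw K p.2.1)ᵀ) := rfl

/-- the group -/
abbrev Grp := Multiplicative M2 ⋊[(actHom K).range.subtype] ↥(actHom K).range

variable {K}

/-- a fixed-point-free top part gives no new order -/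
theorem pow_of_fpf {h : Grp K} {k : ℕ} (hk : h.right ^ k = 1)
    (hfix : ∀ v : Multiplicative M2, (h.right : MulAut (Multiplicative M2)) v = v → v = 1) : h ^ k = 1 := by
  have hr : (h ^ k).right = 1 := by
    rw [← SemidirectProduct.rightHom_eq_right, map_pow]; exact hk
  have hc : (h * h ^ k).left = (h ^ k * h).left := by rw [(Commute.self_pow h k).eq]
  rw [SemidirectProduct.mul_left, SemidirectProduct.mul_left, hr, map_one, MulAut.one_apply, mul_comm (h ^ k).left] at hc
  exact SemidirectProduct.ext (hfix _ (mul_left_cancel hc)) hr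

theorem three_dvd (v : Multiplicative M2) : v ^ 3 = 1 := Multiplicative.toAdd.injective (by
  show (3 : ℕ) • Multiplicative.toAdd v = 0
  ext i j
  rw [Matrix.smul_apply, nsmul_eq_mul, CharP.cast_eq_zero K 3, zero_mul]
  rfl)

theorem pow_three_mul {h : Grp K} {k : ℕ} (hk : h.right ^ k = 1) : h ^ (k * 3) = 1 := by
  have hr : (h ^ k).right = 1 := by rw [← SemidirectProduct.rightHom_eq_right, map_pow]; exact hk
  obtain ⟨v, hv⟩ : ∃ v : Multiplicative M2, h ^ k = SemidirectProduct.inl v :=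
    ⟨(h ^ k).left, SemidirectProduct.ext rfl hr⟩
  rw [pow_mul, hv, ← map_pow, three_dvd, map_one]

theorem tw_trace (g : M2) : (tw K g).trace = g.trace ^ 3 := by
  simp [tw, Matrix.trace_fin_two, RingHom.mapMatrix_apply, frobenius_def, add_pow_char]

theorem tw_scalar (c : K) : tw K (c • (1 : M2)) = c ^ 3 • (1 : M2) := by
  ext i j
  simp only [tw, RingHom.mapMatrix_apply, Matrix.map_apply, frobenius_def, Matrix.smul_apply, Matrix.one_apply, smul_eq_mul]
  split_ifs <;> simp

/-- fixed vectors force the trace condition -/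
theorem trace_of_fixed (s : ℤˣ) (g : SL2 K) {M : M2} (hM : M ≠ 0)
    (h : ((s : ℤ) : K) • (g.1 * M * (tw K g.1)ᵀ) = M) : g.1.trace = ((s : ℤ) : K) * g.1.trace ^ 3 := by
  have cay : ∀ A : M2, A.det = 1 → A * A = A.trace • A - 1 := fun A hA => by
    ext i j
    rw [Matrix.det_fin_two] at hA
    fin_cases i <;> fin_cases j <;> simp [Matrix.mul_apply, Fin.sum_univ_two, Matrix.trace_fin_two] <;>
      first
      | linear_combination hA
      | linear_combination -hA
      | ring
  obtain ⟨B, hB⟩ : ∃ B : M2, B = (tw K g.1)ᵀ := ⟨_, rfl⟩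
  have hBd : B.det = 1 := by rw [hB, Matrix.det_transpose, tw, ← RingHom.map_det, g.2, map_one]
  have hBt : B.trace = g.1.trace ^ 3 := by rw [hB, Matrix.trace_transpose, tw_trace]
  rw [← hB] at h
  obtain ⟨c, hc⟩ : ∃ c : K, c = ((s : ℤ) : K) := ⟨_, rfl⟩
  have hs : c * c = 1 := by
    rw [hc, ← Int.cast_mul, ← Units.val_mul, Int.units_mul_self, Units.val_one, Int.cast_one]
  rw [← hc] at h ⊢
  have h1 : g.1 * M = c • (B.trace • M - M * B) := by
    have e : g.1 * M * B = c • M := by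
      conv_rhs => rw [← h]
      rw [smul_smul, hs, one_smul]
    have e2 : B * (B.trace • (1 : M2) - B) = 1 := by
      rw [mul_sub, cay B hBd, mul_smul_comm, mul_one, sub_sub_cancel]
    calc g.1 * M = (g.1 * M * B) * (B.trace • (1 : M2) - B) := by rw [mul_assoc (g.1 * M), e2, mul_one]
      _ = _ := by rw [e, smul_mul_assoc, mul_sub, mul_smul_comm, mul_one]
  have h2 : g.1 * (g.1 * M) = (c * B.trace) • (g.1 * M) - M := by
    conv_lhs => rw [h1]
    rw [mul_smul_comm, mul_sub, mul_smul_comm, smul_sub, smul_smul, ← mul_assoc, h]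
  rw [← mul_assoc, cay g.1 g.2, sub_mul, one_mul, smul_mul_assoc] at h2
  have h3 : (g.1.trace - c * B.trace) • (g.1 * M) = 0 := by
    rw [sub_smul, sub_eq_zero]; exact sub_left_injective h2
  rcases smul_eq_zero.1 h3 with e | e
  · rw [← hBt, ← sub_eq_zero, e]
  · exfalso
    refine hM ?_
    calc M = (g⁻¹).1 * (g.1 * M) := by
          rw [← mul_assoc, ← Matrix.SpecialLinearGroup.coe_mul, inv_mul_cancel, Matrix.SpecialLinearGroup.coe_one, one_mul]
      _ = 0 := by rw [e, mul_zero]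

theorem act_scalar {p : ℤˣ × SL2 K} {c : K} (hg : p.2.1 = c • (1 : M2)) (hc : ((p.1 : ℤ) : K) * c * c ^ 3 = 1) :
    actHom K p = 1 := MulEquiv.ext fun M => Multiplicative.toAdd.injective (by
  show Multiplicative.toAdd (actHom K p (Multiplicative.ofAdd (Multiplicative.toAdd M))) = Multiplicative.toAdd M
  rw [actHom_apply, hg, tw_scalar, Matrix.transpose_smul, Matrix.transpose_one, smul_mul_assoc, one_mul, mul_smul_comm,
    mul_one, smul_smul, smul_smul, show ((p.1 : ℤ) : K) * c ^ 3 * c = 1 by rw [mul_right_comm]; exact hc,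
    one_smul])

theorem scalar_of_act {p : ℤˣ × SL2 K} (h : actHom K p = 1) :
    ∃ c : K, p.2.1 = c • (1 : M2) ∧ c * c = 1 ∧ ((p.1 : ℤ) : K) = 1 := by
  have h1 : ∀ M : M2, ((p.1 : ℤ) : K) • (p.2.1 * M * (tw K p.2.1)ᵀ) = M := fun M => by
    rw [← actHom_apply, h]; rfl
  have hs : ((p.1 : ℤ) : K) ≠ 0 := fun e => by
    have h2 := congrFun (congrFun (h1 1) 0) 0
    rw [e, zero_smul] at h2
    simp at h2
  have he : ∀ i j k l : Fin 2, ((p.1 : ℤ) : K) * (p.2.1 k i * p.2.1 l j ^ 3) = if k = i ∧ l = j then 1 else 0 := by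
    intro i j k l
    have h2 := congrFun (congrFun (h1 (Matrix.single i j 1)) k) l
    simpa [Matrix.mul_apply, Matrix.single, Fin.sum_univ_two, tw, frobenius_def, eq_comm, ite_and] using h2
  have h01 : p.2.1 0 1 = 0 := by
    have h3 := he 1 1 0 0
    simp [hs] at h3
    exact h3
  have h10 : p.2.1 1 0 = 0 := by
    have h3 := he 0 0 1 1
    simp [hs] at h3
    exact h3
  have a := he 0 0 0 0
  have b := he 0 1 0 1
  simp only [and_self, if_true] at a b
  have hd : p.2.1 0 0 * p.2.1 1 1 = 1 := by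
    have := p.2.2
    rwa [Matrix.det_fin_two, h01, zero_mul, sub_zero] at this
  have h00 : p.2.1 0 0 ≠ 0 := fun e => by rw [e, zero_mul] at hd; exact zero_ne_one hd
  have heq : p.2.1 1 1 = p.2.1 0 0 := by
    have h3 : (p.2.1 1 1) ^ 3 = (p.2.1 0 0) ^ 3 := by
      have := a.trans b.symm
      exact (mul_left_cancel₀ h00 (mul_left_cancel₀ hs this)).symm
    exact frobenius_inj K 3 (by simpa [frobenius_def] using h3)
  rw [heq] at hd
  refine ⟨p.2.1 0 0, ?_, hd, ?_⟩
  · ext i j
    fin_cases i <;> fin_cases j <;> simp [h01, h10, heq]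
  · have : p.2.1 0 0 * p.2.1 0 0 ^ 3 = 1 := by linear_combination (p.2.1 0 0 * p.2.1 0 0 + 1) * hd
    rwa [this, mul_one] at a

end CfsgLib.Char.ReeTrunc
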